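import Groth.Agent.H02CA.Quad.Rows
import Groth.Agent.H02CA.BlowPts.CokerRows

/-!
# Simplicity of cokernels of matrices of linear forms on the quadric
-/

set_option autoImplicit false
set_option linter.style.haveILetI false
set_option maxHeartbeats 1600000
universe u

open CategoryTheory CategoryTheory.Limits AlgebraicGeometry TopologicalSpace Opposite
open Groth.Agent

namespace Groth.Agent.H02CA.Quad

attribute [local instance] H28Vert.picLaw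

open BlowPts

theorem surjective_toGlobal {k : Type u} [Field k] [IsAlgClosed k] :
    Function.Surjective (Coh.toGlobal (pr₁ k ≫ CohB1.ProjSpace.toSpec 1 k)) := by
  haveI := H19Grp.ProjPoint.lft_toSpec (K := k) 1
  haveI : IsIntegral (CohB1.ProjSpace 1 k) := LeadPic.PnRel.isIntegral_projSpace (n := 1) k
  haveI : IsIntegral (XQ k) := S1582.result k _ _ (CohB1.ProjSpace.toSpec 1 k) (CohB1.ProjSpace.toSpec 1 k)
  exact (bijective_const (pr₁ k ≫ CohB1.ProjSpace.toSpec 1 k)).2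

variable {k : Type u} [Field k] [IsAlgClosed k] (D : QData k (XQ k))
  (e₁ : D.h₁ = res (pr₁ k) (O1 1 k)) (e₂ : D.h₂ = res (pr₂ k) (O1 1 k))

include e₁ e₂

theorem cls_quot (a b c d : ℤ) {h : PicF.IsInvertible (box (k := k) a b)} {h' : PicF.IsInvertible (box (k := k) c d)} :
    PicGrp.cls _ h' * (PicGrp.cls _ h)⁻¹ = D.cl (c - a) (d - b) := by
  obtain ⟨h1, c1⟩ := box_cls D e₁ e₂ a b
  obtain ⟨h2, c2⟩ := box_cls D e₁ e₂ c d
  rw [c1, c2, QData.cl, QData.cl, QData.cl, zpow_sub, zpow_sub, mul_inv, mul_mul_mul_comm]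

theorem hom_zero {r : ℕ} {Q Q' : (XQ k).Modules} {a b c d : ℤ}
    (hQ : Nonempty (Q ≅ ∐ fun _ : Fin r => box (k := k) a b))
    (hQ' : Nonempty (Q' ≅ ∐ fun _ : Fin r => box (k := k) c d)) (h : c < a ∨ d < b) (v : Q ⟶ Q') : v = 0 := by
  obtain ⟨i⟩ := hQ
  obtain ⟨j⟩ := hQ'
  obtain ⟨h1, -⟩ := box_cls D e₁ e₂ a b
  obtain ⟨h2, -⟩ := box_cls D e₁ e₂ c d
  have := sigma_hom_eq_zero (hom_eq_zero_of_cvan h1 h2
    (by rw [cls_quot D e₁ e₂ a b c d]; exact D.cvan_zero' (by omega))) (i.inv ≫ v ≫ j.hom)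
  rw [← cancel_epi i.inv, ← cancel_mono j.hom, Category.assoc, this]
  simp

theorem exists_lift {r : ℕ} {P C Q Q' : (XQ k).Modules} {a b : ℤ}
    (hP : Nonempty (P ≅ ∐ fun _ : Fin r => box (k := k) (-1) (-1)))
    (hQ : Nonempty (Q ≅ ∐ fun _ : Fin r => box (k := k) a b)) (ha : a ≤ 0) (hb : b ≤ 0)
    (f : P ⟶ Q') (π : Q' ⟶ C) (w : f ≫ π = 0) (hS : (ShortComplex.mk f π w).ShortExact) (g : Q ⟶ C) :
    ∃ β : Q ⟶ Q', β ≫ π = g := by
  obtain ⟨i⟩ := hQ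
  obtain ⟨h1, -⟩ := box_cls D e₁ e₂ a b
  obtain ⟨h2, -⟩ := box_cls D e₁ e₂ (-1) (-1)
  obtain ⟨β, hβ⟩ := exists_lift_sigma (k := k) h1 h2
    (by rw [cls_quot D e₁ e₂ a b (-1) (-1)]; exact D.cvan_one (by omega) (by omega)) hP f π w hS (i.inv ≫ g)
  exact ⟨i.hom ≫ β, by rw [Category.assoc, hβ, i.hom_inv_id_assoc]⟩

theorem coker_simple {r : ℕ} {P Q₁ Q₂ : (XQ k).Modules}
    (hP : Nonempty (P ≅ ∐ fun _ : Fin r => box (k := k) (-1) (-1)))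
    (hQ₁ : Nonempty (Q₁ ≅ ∐ fun _ : Fin r => box (k := k) (-1) 0))
    (hQ₂ : Nonempty (Q₂ ≅ ∐ fun _ : Fin r => box (k := k) 0 (-1)))
    (f : P ⟶ Q₁ ⊞ Q₂) [Mono f]
    (hstab : ∀ (β₁ : Q₁ ≅ Q₁) (β₂ : Q₂ ≅ Q₂) (γ : P ≅ P), γ.hom ≫ f = f ≫ biprod.map β₁.hom β₂.hom →
      ∃ c : k, (SheafOfModules.toSheaf _).map β₁.hom =
          Coh.smulAb Q₁ (Coh.toGlobal (pr₁ k ≫ CohB1.ProjSpace.toSpec 1 k) c) ∧
        (SheafOfModules.toSheaf _).map β₂.hom =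
          Coh.smulAb Q₂ (Coh.toGlobal (pr₁ k ≫ CohB1.ProjSpace.toSpec 1 k) c) ∧
        (SheafOfModules.toSheaf _).map γ.hom =
          Coh.smulAb P (Coh.toGlobal (pr₁ k ≫ CohB1.ProjSpace.toSpec 1 k) c))
    (φ : cokernel f ⟶ cokernel f) :
    ∃ c : k, (SheafOfModules.toSheaf _).map φ =
      Coh.smulAb (cokernel f) (Coh.toGlobal (pr₁ k ≫ CohB1.ProjSpace.toSpec 1 k) c) := by
  let ρ := Coh.toGlobal (pr₁ k ≫ CohB1.ProjSpace.toSpec 1 k)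
  have hρ : Function.Surjective ρ := surjective_toGlobal
  have hS : (ShortComplex.mk f (cokernel.π f) (cokernel.condition f)).ShortExact :=
    { exact := ShortComplex.exact_cokernel _ }
  obtain ⟨b₁, hb₁⟩ := exists_lift D e₁ e₂ hP hQ₁ (by norm_num) (by norm_num) f _ _ hS (biprod.inl ≫ cokernel.π f ≫ φ)
  obtain ⟨b₂, hb₂⟩ := exists_lift D e₁ e₂ hP hQ₂ (by norm_num) (by norm_num) f _ _ hS (biprod.inr ≫ cokernel.π f ≫ φ)
  let β₁ : Q₁ ⟶ Q₁ := b₁ ≫ biprod.fst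
  let β₂ : Q₂ ⟶ Q₂ := b₂ ≫ biprod.snd
  have hβ : biprod.desc b₁ b₂ = biprod.map β₁ β₂ := by
    refine biprod.hom_ext' _ _ ?_ ?_
    · rw [biprod.inl_desc, biprod.inl_map]
      refine biprod.hom_ext _ _ ?_ ?_
      · simp [β₁]
      · rw [hom_zero D e₁ e₂ hQ₁ hQ₂ (Or.inr (by norm_num)) (b₁ ≫ biprod.snd)]; simp
    · rw [biprod.inr_desc, biprod.inr_map]
      refine biprod.hom_ext _ _ ?_ ?_
      · rw [hom_zero D e₁ e₂ hQ₂ hQ₁ (Or.inl (by norm_num)) (b₂ ≫ biprod.fst)]; simp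
      · simp [β₂]
  have hπ : biprod.map β₁ β₂ ≫ cokernel.π f = cokernel.π f ≫ φ := by
    rw [← hβ]
    exact biprod.hom_ext' _ _ (by rw [biprod.inl_desc_assoc, hb₁]) (by rw [biprod.inr_desc_assoc, hb₂])
  have h0 : (f ≫ biprod.map β₁ β₂) ≫ cokernel.π f = 0 := by
    rw [Category.assoc, hπ, cokernel.condition_assoc, zero_comp]
  let γ := hS.exact.lift _ h0
  have hγ : γ ≫ f = f ≫ biprod.map β₁ β₂ := hS.exact.lift_f _ h0
  obtain ⟨hP', -⟩ := box_cls D e₁ e₂ (-1) (-1)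
  obtain ⟨hQ₁', -⟩ := box_cls D e₁ e₂ (-1) 0
  obtain ⟨hQ₂', -⟩ := box_cls D e₁ e₂ 0 (-1)
  obtain ⟨i⟩ := hP
  obtain ⟨i₁⟩ := hQ₁
  obtain ⟨i₂⟩ := hQ₂
  obtain ⟨c, hc⟩ := (((finite_not_isIso ρ hρ hQ₁' i₁ β₁).union (finite_not_isIso ρ hρ hQ₂' i₂ β₂)).union
    (finite_not_isIso ρ hρ hP' i γ)).exists_notMem
  simp only [Set.mem_union, Set.mem_setOf_eq, not_or, not_not] at hc
  haveI := hc.1.1
  haveI := hc.1.2
  haveI := hc.2
  have hmap : ∀ a : Coh.Γtop (XQ k), biprod.map (Formal.smulModΓ Q₁ a) (Formal.smulModΓ Q₂ a) =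
      Formal.smulModΓ (Q₁ ⊞ Q₂) a := fun a =>
    biprod.hom_ext' _ _ (by rw [biprod.inl_map, Euler.smulModΓ_natural]) (by rw [biprod.inr_map, Euler.smulModΓ_natural])
  have hadd : ∀ (u₁ v₁ : Q₁ ⟶ Q₁) (u₂ v₂ : Q₂ ⟶ Q₂), biprod.map (u₁ + v₁) (u₂ + v₂) =
      biprod.map u₁ u₂ + biprod.map v₁ v₂ := fun u₁ v₁ u₂ v₂ => biprod.hom_ext' _ _ (by simp) (by simp)
  obtain ⟨c₀, hc₁, hc₂, -⟩ := hstab (asIso (β₁ + Formal.smulModΓ Q₁ (ρ c))) (asIso (β₂ + Formal.smulModΓ Q₂ (ρ c)))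
    (asIso (γ + Formal.smulModΓ P (ρ c))) (by
      simp only [asIso_hom, hadd, hmap, Preadditive.add_comp, Preadditive.comp_add, hγ, Euler.smulModΓ_natural])
  have hb : ∀ {Q : (XQ k).Modules} (u : Q ⟶ Q), (SheafOfModules.toSheaf _).map (u + Formal.smulModΓ Q (ρ c)) =
      Coh.smulAb Q (ρ c₀) → u = Formal.smulModΓ Q (ρ (c₀ - c)) := fun {Q} u h => by
    have := (SheafOfModules.toSheaf (XQ k).ringCatSheaf).map_injective (h.trans (Euler.toSheaf_smulModΓ _ _).symm)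
    refine (eq_sub_of_add_eq this).trans (sub_eq_iff_eq_add.2 ?_)
    refine Eq.trans (congrArg (Formal.smulModΓ Q) ?_) (Euler.smulModΓ_add Q _ _)
    exact ((congrArg (fun x => x + ρ c) (map_sub ρ c₀ c)).trans (sub_add_cancel _ _)).symm
  refine ⟨c₀ - c, ?_⟩
  refine (congrArg (SheafOfModules.toSheaf (XQ k).ringCatSheaf).map ?_).trans (Euler.toSheaf_smulModΓ _ _)
  refine (cancel_epi (cokernel.π f)).1 (hπ.symm.trans ?_)
  rw [hb β₁ hc₁, hb β₂ hc₂, hmap, Euler.smulModΓ_natural]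

end Groth.Agent.H02CA.Quad
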