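import Groth.Agent.H02CA.BlowPts.Pic
import Groth.Agent.H02CA.BlowPts.GeomS

/-!
# Cohomology of line bundles on `P¹ × P¹` from its two rulings
-/

set_option autoImplicit false
set_option linter.style.haveILetI false
set_option maxHeartbeats 1600000
universe u

open CategoryTheory CategoryTheory.Limits AlgebraicGeometry TopologicalSpace Opposite
open Groth.Agent

namespace Groth.Agent.H02CA.Quad

attribute [local instance] H28Vert.picLaw

open BlowPts

/-- What the computation uses about the quadric: two classes, a curve of each ruling. -/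
structure QData (k : Type u) [Field k] (X : Scheme.{u}) where
  h₁ : PicLoc.PicSet X
  h₂ : PicLoc.PicSet X
  e₁ : CohB1.ProjSpace 1 k ⟶ X
  e₂ : CohB1.ProjSpace 1 k ⟶ X
  closed₁ : IsClosedImmersion e₁
  closed₂ : IsClosedImmersion e₂
  inv₁ : PicF.IsInvertible (ClSub.idealMod e₁.ker)
  inv₂ : PicF.IsInvertible (ClSub.idealMod e₂.ker)
  cls₁ : PicGrp.cls (ClSub.idealMod e₁.ker) inv₁ = h₁⁻¹
  cls₂ : PicGrp.cls (ClSub.idealMod e₂.ker) inv₂ = h₂⁻¹
  res₁₁ : res e₁ h₁ = 1
  res₁₂ : res e₁ h₂ = O1 1 k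
  res₂₁ : res e₂ h₁ = O1 1 k
  res₂₂ : res e₂ h₂ = 1
  amp : ∃ C : ℕ, ∀ q, 0 < q → CVan q (h₁ ^ (C : ℤ) * h₂ ^ (C : ℤ))
  h0₁ : CVan 0 h₁⁻¹
  h0₂ : CVan 0 h₂⁻¹
  surj₁ : ∀ (a b : ℕ) (N : X.Modules) (hN : PicF.IsInvertible N),
    PicGrp.cls N hN = h₁ ^ (a : ℤ) * h₂ ^ (b : ℤ) → Function.Surjective (OmegaSh.pullSect e₁ N ⊤)
  surj₂ : ∀ (a b : ℕ) (N : X.Modules) (hN : PicF.IsInvertible N),
    PicGrp.cls N hN = h₁ ^ (a : ℤ) * h₂ ^ (b : ℤ) → Function.Surjective (OmegaSh.pullSect e₂ N ⊤)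

variable {k : Type u} [Field k] {X : Scheme.{u}} (D : QData k X)

/-- The classes `O(a, b)`. -/
noncomputable def QData.cl (a b : ℤ) : PicLoc.PicSet X := D.h₁ ^ a * D.h₂ ^ b

/-- The symmetry exchanging the rulings. -/
noncomputable def QData.swap : QData k X where
  h₁ := D.h₂
  h₂ := D.h₁
  e₁ := D.e₂
  e₂ := D.e₁
  closed₁ := D.closed₂
  closed₂ := D.closed₁
  inv₁ := D.inv₂
  inv₂ := D.inv₁
  cls₁ := D.cls₂
  cls₂ := D.cls₁
  res₁₁ := D.res₂₂
  res₁₂ := D.res₂₁
  res₂₁ := D.res₁₂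
  res₂₂ := D.res₁₁
  amp := by
    obtain ⟨C, hC⟩ := D.amp
    exact ⟨C, fun q hq => by rw [mul_comm]; exact hC q hq⟩
  h0₁ := D.h0₂
  h0₂ := D.h0₁
  surj₁ := fun a b N hN h => D.surj₂ b a N hN (by rw [h, mul_comm])
  surj₂ := fun a b N hN h => D.surj₁ b a N hN (by rw [h, mul_comm])

theorem QData.swap_cl (a b : ℤ) : D.swap.cl b a = D.cl a b := mul_comm _ _

theorem QData.res₁_cl (a b : ℤ) : res D.e₁ (D.cl a b) = O1 1 k ^ b := by
  rw [QData.cl, map_mul, map_zpow, map_zpow, D.res₁₁, D.res₁₂, one_zpow, one_mul]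

theorem QData.cl_sub₁ (a b : ℤ) : D.cl (a - 1) b = D.cl a b * D.h₁⁻¹ := by
  rw [QData.cl, QData.cl, zpow_sub_one, mul_right_comm]

variable [IsLocallyNoetherian X] {q : ℕ} {a b : ℤ}

theorem QData.down₁ (h₀ : ¬(q = 0 ∧ 0 ≤ b)) (h₁ : ¬(q = 1 ∧ b ≤ -2)) (h : CVan q (D.cl (a - 1) b)) :
    CVan q (D.cl a b) := by
  haveI := D.closed₁
  haveI := H22Alg.CMHyper.noetherian k 1
  have hs := (cvan_seq D.e₁ rfl D.inv₁ (D.cl a b)).1 q
  rw [D.cls₁, ← D.cl_sub₁, D.res₁_cl] at hs
  exact hs h (cvan_twist 1 _ q h₀ (by push_cast; omega))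

theorem QData.up₁ (h₀ : ¬(q = 0 ∧ 0 ≤ b)) (h₁ : ¬(q = 1 ∧ b ≤ -2)) (h : CVan (q + 1) (D.cl a b)) :
    CVan (q + 1) (D.cl (a - 1) b) := by
  haveI := D.closed₁
  haveI := H22Alg.CMHyper.noetherian k 1
  have hs := (cvan_seq D.e₁ rfl D.inv₁ (D.cl a b)).2.1 q
  rw [D.cls₁, ← D.cl_sub₁, D.res₁_cl] at hs
  exact hs h (cvan_twist 1 _ q h₀ (by push_cast; omega))

theorem QData.up_zero₁ (h : CVan 0 (D.cl a b)) : CVan 0 (D.cl (a - 1) b) := by
  haveI := D.closed₁
  haveI := H22Alg.CMHyper.noetherian k 1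
  have hs := (cvan_seq D.e₁ rfl D.inv₁ (D.cl a b)).2.2
  rw [D.cls₁, ← D.cl_sub₁] at hs
  exact hs h

/-- `H¹` descends along the first ruling in non-negative degree. -/
theorem QData.lift₁ (ha : 0 ≤ a) (hb : -1 ≤ b) (h : CVan 1 (D.cl a b)) : CVan 1 (D.cl (a - 1) b) := by
  rcases eq_or_lt_of_le hb with rfl | hb
  · exact D.up₁ (by omega) (by omega) h
  haveI := D.closed₁
  obtain ⟨N, hN, hc⟩ := PicGrp.exists_eq_cls (D.cl a b)
  obtain ⟨a', rfl⟩ := Int.eq_ofNat_of_zero_le ha
  obtain ⟨b', rfl⟩ := Int.eq_ofNat_of_zero_le (show 0 ≤ b by omega)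
  have h1 := subsingleton_H1_of_surjective (H10Coh.CI.closedSeq_shortExact D.e₁ hN) (D.surj₁ a' b' N hN hc.symm)
    ((cvan_iff hN).1 (hc ▸ h))
  rw [D.cl_sub₁, hc, ← D.cls₁, mul_comm,
    show PicGrp.cls _ D.inv₁ * PicGrp.cls N hN = PicGrp.cls _ (H11Ample.isInvertible_tensor D.inv₁ hN) from
      Subtype.ext (PicGrp.cls_mul_cls_val D.inv₁ hN), cvan_iff]
  exact h1

/-- Ample enough twists. -/
theorem QData.exists_corner : ∃ C : ℕ, ∀ q, 0 < q → CVan q (D.cl C C) := D.amp

theorem QData.cvan_two (hq : 2 ≤ q) (hb : -1 ≤ b) : CVan q (D.cl a b) := by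
  obtain ⟨C, hC⟩ := D.amp
  obtain ⟨q, rfl⟩ : ∃ q', q = q' + 1 := ⟨q - 1, by omega⟩
  have hcol : ∀ (e : ℕ) (b : ℤ), (C : ℤ) - e ≤ b → b ≤ C → CVan (q + 1) (D.cl C b) := by
    intro e
    induction e with
    | zero => intro b h1 h2; obtain rfl : b = C := (by omega); exact hC _ (by omega)
    | succ e ih =>
      intro b h1 h2
      rcases eq_or_lt_of_le h2 with rfl | h2
      · exact hC _ (by omega)
      rw [show b = b + 1 - 1 by ring, ← D.swap_cl]
      exact D.swap.up₁ (by omega) (by omega) (by rw [D.swap_cl]; exact ih _ (by push_cast at h1; omega) (by omega))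
  have hcol' : ∀ b : ℤ, -1 ≤ b → CVan (q + 1) (D.cl C b) := fun b hb => by
    rcases le_or_gt b C with h | h
    · exact hcol (C + 1) b (by push_cast; omega) h
    · suffices H : ∀ e : ℕ, CVan (q + 1) (D.cl C (C + e)) by
        have := H (b - C).toNat
        rwa [show (C : ℤ) + ((b - C).toNat : ℕ) = b by omega] at this
      intro e
      induction e with
      | zero => simpa [QData.cl] using hC _ (by omega)
      | succ e ih =>
        rw [← D.swap_cl]
        refine D.swap.down₁ (by omega) (by omega) ?_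
        rw [D.swap_cl, show (C : ℤ) + ((e + 1 : ℕ) : ℤ) - 1 = C + e by push_cast; ring]
        exact ih
  have hdown : ∀ e : ℕ, CVan (q + 1) (D.cl (C - e) b) := by
    intro e
    induction e with
    | zero => simpa using hcol' b hb
    | succ e ih =>
      rw [show (C : ℤ) - ((e + 1 : ℕ) : ℤ) = C - e - 1 by push_cast; ring]
      exact D.up₁ (by omega) (by omega) ih
  have hup : ∀ e : ℕ, CVan (q + 1) (D.cl (C + e) b) := by
    intro e
    induction e with
    | zero => simpa using hcol' b hb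
    | succ e ih =>
      refine D.down₁ (by omega) (by omega) ?_
      rw [show (C : ℤ) + ((e + 1 : ℕ) : ℤ) - 1 = C + e by push_cast; ring]
      exact ih
  rcases le_or_gt a C with h | h
  · have := hdown (C - a).toNat
    rwa [show (C : ℤ) - ((C - a).toNat : ℕ) = a by omega] at this
  · have := hup (a - C).toNat
    rwa [show (C : ℤ) + ((a - C).toNat : ℕ) = a by omega] at this

theorem QData.cvan_two' (hq : 2 ≤ q) (h : -1 ≤ a ∨ -1 ≤ b) : CVan q (D.cl a b) := by
  rcases h with h | h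
  · rw [← D.swap_cl]; exact D.swap.cvan_two hq h
  · exact D.cvan_two hq h

/-- No `H¹` in degrees at least `-1`. -/
theorem QData.cvan_one (ha : -1 ≤ a) (hb : -1 ≤ b) : CVan 1 (D.cl a b) := by
  obtain ⟨C, hC⟩ := D.amp
  have hrow : ∀ a : ℤ, -1 ≤ a → CVan 1 (D.cl a C) := by
    have hdn : ∀ e : ℕ, (e : ℤ) ≤ C + 1 → CVan 1 (D.cl (C - e) C) := by
      intro e
      induction e with
      | zero => intro _; simpa [QData.cl] using hC 1 Nat.one_pos
      | succ e ih =>
        intro he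
        rw [show (C : ℤ) - ((e + 1 : ℕ) : ℤ) = C - e - 1 by push_cast; ring]
        exact D.lift₁ (by push_cast at he; omega) (by omega) (ih (by push_cast at he; omega))
    have hup : ∀ e : ℕ, CVan 1 (D.cl (C + e) C) := by
      intro e
      induction e with
      | zero => simpa [QData.cl] using hC 1 Nat.one_pos
      | succ e ih =>
        refine D.down₁ (by omega) (by omega) ?_
        rw [show (C : ℤ) + ((e + 1 : ℕ) : ℤ) - 1 = C + e by push_cast; ring]
        exact ih
    intro a ha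
    rcases le_or_gt a C with h | h
    · have := hdn (C - a).toNat (by omega)
      rwa [show (C : ℤ) - ((C - a).toNat : ℕ) = a by omega] at this
    · have := hup (a - C).toNat
      rwa [show (C : ℤ) + ((a - C).toNat : ℕ) = a by omega] at this
  have hdn : ∀ e : ℕ, (e : ℤ) ≤ C + 1 → CVan 1 (D.cl a (C - e)) := by
    intro e
    induction e with
    | zero => intro _; simpa using hrow a ha
    | succ e ih =>
      intro he
      rw [show (C : ℤ) - ((e + 1 : ℕ) : ℤ) = C - e - 1 by push_cast; ring, ← D.swap_cl]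
      exact D.swap.lift₁ (by push_cast at he; omega) ha (by rw [D.swap_cl]; exact ih (by push_cast at he; omega))
  have hup : ∀ e : ℕ, CVan 1 (D.cl a (C + e)) := by
    intro e
    induction e with
    | zero => simpa using hrow a ha
    | succ e ih =>
      rw [← D.swap_cl]
      refine D.swap.down₁ (by omega) (by omega) ?_
      rw [D.swap_cl, show (C : ℤ) + ((e + 1 : ℕ) : ℤ) - 1 = C + e by push_cast; ring]
      exact ih
  rcases le_or_gt b C with h | h
  · have := hdn (C - b).toNat (by omega)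
    rwa [show (C : ℤ) - ((C - b).toNat : ℕ) = b by omega] at this
  · have := hup (b - C).toNat
    rwa [show (C : ℤ) + ((b - C).toNat : ℕ) = b by omega] at this

/-- No `H¹` in degrees at most `-1`. -/
theorem QData.cvan_one_neg (ha : a ≤ -1) (hb : b ≤ -1) : CVan 1 (D.cl a b) := by
  have h1 : ∀ e : ℕ, CVan 1 (D.cl (-1) (-1 - e)) := by
    intro e
    induction e with
    | zero => exact D.cvan_one le_rfl (by omega)
    | succ e ih =>
      rw [show (-1 : ℤ) - ((e + 1 : ℕ) : ℤ) = -1 - e - 1 by push_cast; ring, ← D.swap_cl]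
      exact D.swap.up₁ (by omega) (by omega) (by rw [D.swap_cl]; exact ih)
  have h2 : ∀ e : ℕ, CVan 1 (D.cl (-1 - e) b) := by
    intro e
    induction e with
    | zero =>
      have := h1 (-1 - b).toNat
      rw [show (-1 : ℤ) - ((-1 - b).toNat : ℕ) = b by omega] at this
      simpa using this
    | succ e ih =>
      rw [show (-1 : ℤ) - ((e + 1 : ℕ) : ℤ) = -1 - e - 1 by push_cast; ring]
      exact D.up₁ (by omega) (by omega) ih
  have := h2 (-1 - a).toNat
  rwa [show (-1 : ℤ) - ((-1 - a).toNat : ℕ) = a by omega] at this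

/-- No sections in negative degree. -/
theorem QData.cvan_zero (ha : a < 0) : CVan 0 (D.cl a b) := by
  have h1 : ∀ e : ℕ, CVan 0 (D.cl (-1 - e) 0) := by
    intro e
    induction e with
    | zero =>
      rw [QData.cl, Nat.cast_zero, sub_zero, zpow_zero, mul_one, zpow_neg_one]
      exact D.h0₁
    | succ e ih =>
      rw [show (-1 : ℤ) - ((e + 1 : ℕ) : ℤ) = -1 - e - 1 by push_cast; ring]
      exact D.up_zero₁ ih
  have h0 : CVan 0 (D.cl a 0) := by
    have := h1 (-1 - a).toNat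
    rwa [show (-1 : ℤ) - ((-1 - a).toNat : ℕ) = a by omega] at this
  have hdn : ∀ e : ℕ, CVan 0 (D.cl a (-(e : ℤ))) := by
    intro e
    induction e with
    | zero => simpa using h0
    | succ e ih =>
      rw [show (-((e + 1 : ℕ) : ℤ)) = -(e : ℤ) - 1 by push_cast; ring, ← D.swap_cl]
      exact D.swap.up_zero₁ (by rw [D.swap_cl]; exact ih)
  have hup : ∀ e : ℕ, CVan 0 (D.cl a e) := by
    intro e
    induction e with
    | zero => simpa using h0
    | succ e ih =>
      rw [← D.swap_cl]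
      refine D.swap.down₁ (by omega) (by omega) ?_
      rw [D.swap_cl, show ((e + 1 : ℕ) : ℤ) - 1 = e by push_cast; ring]
      exact ih
  rcases le_or_gt b 0 with h | h
  · have := hdn (-b).toNat
    rwa [show -(((-b).toNat : ℕ) : ℤ) = b by omega] at this
  · have := hup b.toNat
    rwa [show ((b.toNat : ℕ) : ℤ) = b by omega] at this

theorem QData.cvan_zero' (h : a < 0 ∨ b < 0) : CVan 0 (D.cl a b) := by
  rcases h with h | h
  · exact D.cvan_zero h
  · rw [← D.swap_cl]; exact D.swap.cvan_zero h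

end Groth.Agent.H02CA.Quad
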