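import Groth.Agent.H02CA.Quad.Geom
import Groth.Agent.H17.FLI.Bott
import Groth.Agent.H28Int.Push
import Groth.Agent.H29RR.P1Split
import Groth.Agent.H28RR.Clopen
import Groth.Agent.H29DoubleCover.Pencil
import Groth.Agent.H28Vert.ExcConverse

/-!
# Dimensions of spaces of sections on the quadric
-/

set_option autoImplicit false
set_option linter.style.haveILetI false
set_option maxHeartbeats 1600000
universe u

open CategoryTheory CategoryTheory.Limits AlgebraicGeometry TopologicalSpace Opposite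
open Groth.Agent

namespace Groth.Agent.H02CA.Quad

attribute [local instance] H28Vert.picLaw

open BlowPts

variable {k : Type u} [Field k] {X : Scheme.{u}} [X.Over (Spec (CommRingCat.of k))]

/-- All modules of a class have `d`-dimensional sections. -/
def Dim (c : PicLoc.PicSet X) (d : ℕ) : Prop :=
  ∀ (M : X.Modules) (hM : PicF.IsInvertible M), PicGrp.cls M hM = c →
    Module.Finite k (Coh.HH X M 0) ∧ Module.finrank k (Coh.HH X M 0) = d

variable [IsProper (X ↘ Spec (CommRingCat.of k))] [IsLocallyNoetherian X]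

theorem finite_h0 {M : X.Modules} (hM : PicF.IsInvertible M) : Module.Finite k (Coh.HH X M 0) := by
  haveI := H29RR.isNoetherian_of_proper (k := k) (X := X)
  exact H10Coh.finite_HH_proper k _ _
    (H16Derived.KFlat.Stalk.isCoh_of_isFinLocFree (H28Pinch.isFinLocFree_of_isInvertible hM)) 0

attribute [local instance] H29RR.PnPic.overSpec

/-- Adding the sections on a rational curve. -/
theorem dim_step (e : CohB1.ProjSpace 1 k ⟶ X) [IsClosedImmersion e]
    (he : e ≫ (X ↘ Spec (CommRingCat.of k)) = CohB1.ProjSpace.toSpec 1 k)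
    (hi : PicF.IsInvertible (ClSub.idealMod e.ker)) {c : PicLoc.PicSet X} {d : ℤ} {a b : ℕ}
    (hv : CVan 1 (c * PicGrp.cls _ hi)) (hres : res e c = O1 1 k ^ d)
    (h1 : Dim (k := k) (c * PicGrp.cls _ hi) a)
    (hd : Module.finrank k (Coh.HH (CohB1.ProjSpace 1 k) (Twist.twistProjSpace 1 k d) 0) = b) :
    Dim (k := k) c (a + b) := by
  intro M hM hc
  refine ⟨finite_h0 hM, ?_⟩
  have hI := H11Ample.isInvertible_tensor hi hM
  have hcI : PicGrp.cls _ hI = c * PicGrp.cls _ hi := by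
    rw [← hc, mul_comm]
    exact (Subtype.ext (PicGrp.cls_mul_cls_val hi hM)).symm
  obtain ⟨hf1, hd1⟩ := h1 _ hI hcI
  let N := (Scheme.Modules.pullback e).obj M
  have hN : PicF.IsInvertible N := PicLoc.isInvertible_pullback e hM
  obtain ⟨i⟩ : Nonempty (N ≅ Twist.twistProjSpace 1 k d) := by
    refine (PicGrp.cls_eq_cls_iff hN ((H10Coh.Stab.isTwistFamily_projSpace 1 k).inv d)).1 ?_
    rw [← res_cls e M hM, hc, hres, cls_twist]
  haveI : N.IsQuasicoherent := (H10Coh.Tw.isCoh_of_vb (H28Pinch.isFinLocFree_of_isInvertible hN)).1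
  have h3 : Module.finrank k (Coh.HH X ((Coh.push e).obj N) 0) = b := by
    rw [H28Int.Push.finrank_HH_push k e he N 0, (H10Coh.HHSeq.isoₗ i 0).finrank_eq, hd]
  have hS := H10Coh.CI.closedSeq_shortExact e hM
  haveI : Module.Finite k (Coh.HH X (H10Coh.CI.closedSeq e hM).X₁ 0) := hf1
  haveI : Module.Finite k (Coh.HH X (H10Coh.CI.closedSeq e hM).X₃ 0) := by
    haveI : Module.Finite k (Coh.HH X (H10Coh.CI.closedSeq e hM).X₂ 0) := finite_h0 hM
    refine Module.Finite.of_surjective (H10Coh.Hyper.Hmₗ (F := k) (H10Coh.CI.closedSeq e hM).g 0) fun x => ?_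
    rw [← LinearMap.mem_range, H10Coh.Hyper.range_Hmₗ hS 0]
    exact ((cvan_iff hI).1 (hcI ▸ hv)).elim _ _
  obtain ⟨-, h2⟩ := H17.FLI.Bott.h0_add (F := k) hS ((cvan_iff hI).1 (hcI ▸ hv))
  exact h2.trans (congrArg₂ (· + ·) hd1 h3)

/-- The quadric over the base. -/
noncomputable instance overXQ : (XQ k).Over (Spec (CommRingCat.of k)) :=
  ⟨pr₁ k ≫ CohB1.ProjSpace.toSpec 1 k⟩

instance isProperXQ : IsProper (XQ k ↘ Spec (CommRingCat.of k)) :=
  inferInstanceAs (IsProper (pr₁ k ≫ CohB1.ProjSpace.toSpec 1 k))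

/-- The dimensions needed. -/
theorem exists_dims [IsAlgClosed k] (D : QData k (XQ k))
    (o₁ : D.e₁ ≫ pr₁ k ≫ CohB1.ProjSpace.toSpec 1 k = CohB1.ProjSpace.toSpec 1 k)
    (o₂ : D.e₂ ≫ pr₁ k ≫ CohB1.ProjSpace.toSpec 1 k = CohB1.ProjSpace.toSpec 1 k) :
    Dim (k := k) (D.cl 1 0) 2 ∧ Dim (k := k) (D.cl 0 1) 2 ∧ Dim (k := k) (D.cl 1 1) 4 := by
  haveI := H19Grp.ProjPoint.lft_toSpec (K := k) 1
  haveI : IsIntegral (CohB1.ProjSpace 1 k) := LeadPic.PnRel.isIntegral_projSpace (n := 1) k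
  haveI : IsIntegral (XQ k) := S1582.result k _ _ (CohB1.ProjSpace.toSpec 1 k) (CohB1.ProjSpace.toSpec 1 k)
  have h00 : Dim (k := k) (D.cl 0 0) 1 := by
    intro M hM hc
    obtain ⟨i⟩ : Nonempty (M ≅ Coh.structureModule (XQ k)) := by
      rw [← PicGrp.cls_eq_one_iff hM, hc, QData.cl, zpow_zero, zpow_zero, one_mul]
    refine ⟨finite_h0 hM, (H10Coh.HHSeq.isoₗ i 0).finrank_eq.trans ?_⟩
    exact H28Vert.finrank_H0_eq_one (E := XQ k) (bijective_const (XQ k ↘ Spec (CommRingCat.of k))).2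
  have t0 : Module.finrank k (Coh.HH (CohB1.ProjSpace 1 k) (Twist.twistProjSpace 1 k 0) 0) = 1 :=
    H29RR.PnPic.finrank_h0_zero
  have t1 : Module.finrank k (Coh.HH (CohB1.ProjSpace 1 k) (Twist.twistProjSpace 1 k 1) 0) = 2 :=
    H29DoubleCover.finrank_h0_twist_one
  have h10 : Dim (k := k) (D.cl 1 0) 2 := by
    haveI := D.closed₁
    have hc : D.cl 1 0 * PicGrp.cls _ D.inv₁ = D.cl 0 0 := by rw [D.cls₁, ← D.cl_sub₁]; norm_num
    exact dim_step (a := 1) (b := 1) D.e₁ o₁ D.inv₁ (hc ▸ D.cvan_one (by norm_num) (by norm_num))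
      (D.res₁_cl 1 0) (hc ▸ h00) t0
  have h01 : Dim (k := k) (D.cl 0 1) 2 := by
    haveI := D.closed₂
    have hc : D.swap.cl 1 0 * PicGrp.cls _ D.inv₂ = D.cl 0 0 := by
      rw [D.cls₂, show D.h₂⁻¹ = D.swap.h₁⁻¹ from rfl, ← D.swap.cl_sub₁, ← D.swap_cl]; norm_num
    rw [← D.swap_cl]
    exact dim_step (a := 1) (b := 1) D.e₂ o₂ D.inv₂ (hc ▸ D.cvan_one (by norm_num) (by norm_num))
      (D.swap.res₁_cl 1 0) (hc ▸ h00) t0
  have h11 : Dim (k := k) (D.cl 1 1) 4 := by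
    haveI := D.closed₁
    have hc : D.cl 1 1 * PicGrp.cls _ D.inv₁ = D.cl 0 1 := by rw [D.cls₁, ← D.cl_sub₁]; norm_num
    exact dim_step (a := 2) (b := 2) D.e₁ o₁ D.inv₁ (hc ▸ D.cvan_one (by norm_num) (by norm_num))
      (D.res₁_cl 1 1) (hc ▸ h01) t1
  exact ⟨h10, h01, h11⟩

end Groth.Agent.H02CA.Quad
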