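import Groth.Agent.H02CA.Quad.Rows
import Groth.Agent.H11Span.Points
import Groth.Agent.H10Coh.TwistExact

/-!
# A matrix of linear forms on the quadric surjective on sections

The blocks are `y₀ + y₁ M` and `x₀ + x₁ N` with `M` the cyclic shift and `N` diagonal with distinct entries.
-/

set_option autoImplicit false
set_option linter.style.haveILetI false
set_option maxHeartbeats 1600000
universe u

open CategoryTheory CategoryTheory.Limits AlgebraicGeometry TopologicalSpace Opposite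
open Groth.Agent Groth.Agent.H22Alg Groth.Agent.H11Tilde Groth.Agent.H11Ample

namespace Groth.Agent.H02CA.Quad

attribute [local instance] H28Vert.picLaw

open BlowPts

variable {k : Type u} [Field k]

/-- The relations of the matrix force every product of coordinates to vanish. -/
theorem forced_zero {R W ι : Type*} [CommRing R] [AddCommGroup W] [Module R W] (σ : Equiv.Perm ι) (d : ι → ℤ)
    (hd : ∀ l, IsUnit ((d (σ l) - d l : ℤ) : R)) (z : Fin 2 → Fin 2 → ι → W)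
    (h1 : ∀ a l, z a 0 l + z a 1 (σ l) = 0) (h2 : ∀ b l, z 0 b l + (d l : R) • z 1 b l = 0) :
    ∀ a b l, z a b l = 0 := by
  have h11 : ∀ l, z 1 1 (σ l) = 0 := fun l => by
    have e : z 0 1 (σ l) + (d l : R) • z 1 1 (σ l) = 0 := by
      have := h2 0 l
      rw [eq_neg_of_add_eq_zero_left (h1 0 l), eq_neg_of_add_eq_zero_left (h1 1 l), smul_neg, ← neg_add,
        neg_eq_zero] at this
      exact this
    have : ((d (σ l) - d l : ℤ) : R) • z 1 1 (σ l) = 0 := by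
      rw [Int.cast_sub, sub_smul, sub_eq_zero]
      exact add_left_cancel ((h2 1 (σ l)).trans e.symm)
    exact (hd l).smul_eq_zero.1 this
  have h11' : ∀ l, z 1 1 l = 0 := fun l => by simpa using h11 (σ.symm l)
  have h01 : ∀ l, z 0 1 l = 0 := fun l => by simpa [h11' l] using h2 1 l
  have h10 : ∀ l, z 1 0 l = 0 := fun l => by simpa [h11' (σ l)] using h1 1 l
  have h00 : ∀ l, z 0 0 l = 0 := fun l => by simpa [h01 (σ l)] using h1 0 l
  intro a b l
  fin_cases a <;> fin_cases b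
  exacts [h00 l, h01 l, h10 l, h11' l]

/-- Sections of a pulled back `O(1)` are spanned by the coordinates. -/
theorem exists_sum_pullTop {p q : XQ k ⟶ CohB1.ProjSpace 1 k} (R : Ruling q p)
    (h : CVan 0 (res p (O1 1 k) * (res q (O1 1 k))⁻¹))
    (w : Γ((Scheme.Modules.pullback p).obj (Twist.twistProjSpace 1 k 1), ⊤)) :
    ∃ a : Fin 2 → Γ(XQ k, ⊤), w = ∑ i, a i • pullTop p (ProjUP.coord 1 k i) := by
  let B := Twist.twistProjSpace 1 k 1
  let M := (Scheme.Modules.pullback p).obj B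
  have hB := (H10Coh.Stab.isTwistFamily_projSpace 1 k).inv 1
  have hM : PicF.IsInvertible M := PicLoc.isInvertible_pullback p hB
  haveI := R.closed
  have hS := H10Coh.CI.closedSeq_shortExact R.e hM
  have hinj : ∀ u : Γ(M, ⊤), OmegaSh.pullSect R.e M ⊤ u = 0 → u = 0 := fun u hu => by
    obtain ⟨v, hv⟩ := H10Coh.exists_app_eq_of_exact hS ⊤ u hu
    have hI := H11Ample.isInvertible_tensor R.inv hM
    have hsub : Subsingleton (Coh.HH (XQ k) _ 0) := (cvan_iff hI).1 (by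
      rw [cls_tensor R.inv hM, R.cls, ← res_cls p B hB, mul_comm]; exact h)
    haveI : Subsingleton Γ((H10Coh.CI.closedSeq R.e hM).X₁, ⊤) :=
      haveI : Subsingleton (Coh.HH (XQ k) (H10Coh.CI.closedSeq R.e hM).X₁ 0) := hsub
      ((H10Coh.HHEquiv _ 0).trans (H10Coh.H0Equiv (H10Coh.sh (H10Coh.CI.closedSeq R.e hM).X₁) (⊤ : (XQ k).Opens))).symm.toEquiv.subsingleton
    rw [← hv, Subsingleton.elim v 0, map_zero]
    rfl
  obtain ⟨ψ, hψ⟩ := LeadVA.exists_iso_pullTop R.e p (𝟙 _) R.over_q B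
  obtain ⟨c, hc⟩ : ∃ c, OmegaSh.pullSect (𝟙 _) B ⊤ c = ψ.hom.app ⊤ (OmegaSh.pullSect R.e M ⊤ w) := by
    refine ⟨((Scheme.Modules.pullbackId _).hom.app B).app ⊤ (ψ.hom.app ⊤ (OmegaSh.pullSect R.e M ⊤ w)), ?_⟩
    rw [← S18351.pullbackId_inv_app]
    exact congr($(congrArg (fun k => Scheme.Modules.Hom.app k ⊤)
      ((Scheme.Modules.pullbackId _).hom_inv_id_app B)) (ψ.hom.app ⊤ (OmegaSh.pullSect R.e M ⊤ w)))
  have hw : w = pullTop p c := by
    refine sub_eq_zero.1 (hinj _ ?_)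
    refine (map_sub _ _ _).trans (sub_eq_zero.2 ((ConcreteCategory.bijective_of_isIso (ψ.hom.app ⊤)).1 ?_))
    refine hc.symm.trans ((((hψ ⊤ le_rfl le_rfl c).trans (H10Coh.mres_self _ _ _))).symm.trans ?_)
    refine congrArg (ψ.hom.app ⊤) ?_
    exact congrArg (OmegaSh.pullSect R.e M ⊤) (H10Coh.mres_self _ _ _)
  obtain ⟨σ, hσ⟩ := H11Span.exists_sum_coords c
  refine ⟨fun i => p.appTop (ProjUP.toGlobal (CohB1.ProjSpace.toSpec 1 k) (σ i)), ?_⟩
  rw [hw, hσ]
  rw [Fin.sum_univ_two, Fin.sum_univ_two]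
  exact (map_add (OmegaSh.pullSect p B ⊤).hom _ _).trans
    (congrArg₂ (· + ·) (OmegaSh.pullSect_smul _ _ _ _ _) (OmegaSh.pullSect_smul _ _ _ _ _))

/-- A matrix of linear forms surjective at every point and on sections. -/
theorem exists_epi [IsAlgClosed k] [CharZero k] (r : ℕ) (hr : 2 ≤ r) :
    ∃ m : (∐ fun _ : Fin r => box (k := k) 1 0) ⊞ (∐ fun _ : Fin r => box (k := k) 0 1) ⟶
        ∐ fun _ : Fin r => box (k := k) 1 1,
      Epi m ∧ Function.Surjective (m.app ⊤) := by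
  obtain ⟨D, e₁, e₂, -, -⟩ := exists_qdata (k := k)
  obtain ⟨R₂⟩ := nonempty_ruling (IsPullback.of_hasPullback (CohB1.ProjSpace.toSpec 1 k) (CohB1.ProjSpace.toSpec 1 k)).flip
  obtain ⟨R₁⟩ := nonempty_ruling (IsPullback.of_hasPullback (CohB1.ProjSpace.toSpec 1 k) (CohB1.ProjSpace.toSpec 1 k))
  obtain ⟨n, rfl⟩ : ∃ n, r = n + 2 := ⟨r - 2, by omega⟩
  let A := (Scheme.Modules.pullback (pr₁ k)).obj (Twist.twistProjSpace 1 k 1)
  let B := (Scheme.Modules.pullback (pr₂ k)).obj (Twist.twistProjSpace 1 k 1)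
  obtain ⟨hA, cA⟩ := cls_pullback_twist (k := k) (pr₁ k) 1
  obtain ⟨hB, cB⟩ := cls_pullback_twist (k := k) (pr₂ k) 1
  have hO := H11Proj.isInvertible_structureModule (X := XQ k)
  have hO1 : PicGrp.cls _ hO = 1 := (PicGrp.cls_eq_one_iff hO).2 ⟨Iso.refl _⟩
  obtain ⟨u⟩ : Nonempty (box (k := k) 1 0 ≅ CohB1.tensorMod A (Coh.structureModule _)) := by
    obtain ⟨h, c⟩ := box_cls D e₁ e₂ 1 0
    refine (PicGrp.cls_eq_cls_iff h (H11Ample.isInvertible_tensor hA hO)).1 ?_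
    rw [c, cls_tensor hA hO, hO1, cA, ← e₁, QData.cl, zpow_zero]
  obtain ⟨v⟩ : Nonempty (box (k := k) 0 1 ≅ CohB1.tensorMod (Coh.structureModule _) B) := by
    obtain ⟨h, c⟩ := box_cls D e₁ e₂ 0 1
    refine (PicGrp.cls_eq_cls_iff h (H11Ample.isInvertible_tensor hO hB)).1 ?_
    rw [c, cls_tensor hO hB, hO1, cB, ← e₂, QData.cl, zpow_zero]
  let x : Fin 2 → Γ(A, ⊤) := fun a => pullTop (pr₁ k) (ProjUP.coord 1 k a)
  let y : Fin 2 → Γ(B, ⊤) := fun b => pullTop (pr₂ k) (ProjUP.coord 1 k b)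
  let F : Fin (n + 2) → (XQ k).Modules := fun _ => CohB1.tensorMod A B
  let σ : Equiv.Perm (Fin (n + 2)) := Equiv.addRight 1
  let d : Fin (n + 2) → ℤ := fun l => (l : ℕ)
  let m₁ := Sigma.desc fun l : Fin (n + 2) => u.hom ≫
    (KosTwist.tensorLeftMap A (homOfGlobal B (y 0)) ≫ Sigma.ι F l +
      KosTwist.tensorLeftMap A (homOfGlobal B (y 1)) ≫ Sigma.ι F (σ l))
  let m₂ := Sigma.desc fun l : Fin (n + 2) => v.hom ≫
    LimSh.tensorModMap (homOfGlobal A (x 0 + (d l : Γ(XQ k, ⊤)) • x 1)) B ≫ Sigma.ι F l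
  let m : (∐ fun _ : Fin (n + 2) => box (k := k) 1 0) ⊞ (∐ fun _ : Fin (n + 2) => box (k := k) 0 1) ⟶ ∐ F :=
    biprod.desc m₁ m₂
  let S : Submodule Γ(XQ k, ⊤) Γ(∐ F, ⊤) :=
    { carrier := Set.range (m.app ⊤)
      add_mem' := by rintro _ _ ⟨a, rfl⟩ ⟨b, rfl⟩; exact ⟨a + b, map_add _ _ _⟩
      zero_mem' := ⟨0, map_zero _⟩
      smul_mem' := by rintro c _ ⟨a, rfl⟩; exact ⟨c • a, m.app_smul c a⟩ }
  let one : Γ(Coh.structureModule (XQ k), ⊤) := (1 : Γ(XQ k, ⊤))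
  have hone : ∀ {L : (XQ k).Modules} (g : Γ(L, ⊤)), (homOfGlobal L g).app ⊤ one = g := fun {L} g =>
    (one_smul Γ(XQ k, ⊤) _).trans (H10Coh.mres_self _ _ _)
  have rel₁ : ∀ a l, (Sigma.ι F l).app ⊤ (tm (x a) (y 0)) + (Sigma.ι F (σ l)).app ⊤ (tm (x a) (y 1)) ∈ S := by
    intro a l
    refine ⟨(Sigma.ι (fun _ : Fin (n + 2) => box (k := k) 1 0) l ≫ biprod.inl).app ⊤ (u.inv.app ⊤ (tm (x a) one)), ?_⟩
    have hm : Sigma.ι (fun _ : Fin (n + 2) => box (k := k) 1 0) l ≫ biprod.inl ≫ m = u.hom ≫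
        (KosTwist.tensorLeftMap A (homOfGlobal B (y 0)) ≫ Sigma.ι F l +
          KosTwist.tensorLeftMap A (homOfGlobal B (y 1)) ≫ Sigma.ι F (σ l)) := by
      simp [m, m₁]
    refine (congr($(congrArg (fun w => Scheme.Modules.Hom.app w ⊤) hm) (u.inv.app ⊤ (tm (x a) one)))).trans ?_
    show (KosTwist.tensorLeftMap A (homOfGlobal B (y 0)) ≫ Sigma.ι F l +
      KosTwist.tensorLeftMap A (homOfGlobal B (y 1)) ≫ Sigma.ι F (σ l)).app ⊤ ((u.inv ≫ u.hom).app ⊤ (tm (x a) one)) = _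
    rw [u.inv_hom_id]
    show (Sigma.ι F l).app ⊤ ((KosTwist.tensorLeftMap A (homOfGlobal B (y 0))).app ⊤ (tm (x a) one)) +
      (Sigma.ι F (σ l)).app ⊤ ((KosTwist.tensorLeftMap A (homOfGlobal B (y 1))).app ⊤ (tm (x a) one)) = _
    rw [KosTwist.map_tm_right, KosTwist.map_tm_right, hone, hone]
  have rel₂ : ∀ b l, (Sigma.ι F l).app ⊤ (tm (x 0) (y b)) +
      (d l : Γ(XQ k, ⊤)) • (Sigma.ι F l).app ⊤ (tm (x 1) (y b)) ∈ S := by
    intro b l
    refine ⟨(Sigma.ι (fun _ : Fin (n + 2) => box (k := k) 0 1) l ≫ biprod.inr).app ⊤ (v.inv.app ⊤ (tm one (y b))), ?_⟩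
    have hm : Sigma.ι (fun _ : Fin (n + 2) => box (k := k) 0 1) l ≫ biprod.inr ≫ m = v.hom ≫
        LimSh.tensorModMap (homOfGlobal A (x 0 + (d l : Γ(XQ k, ⊤)) • x 1)) B ≫ Sigma.ι F l := by
      simp [m, m₂]
    refine (congr($(congrArg (fun w => Scheme.Modules.Hom.app w ⊤) hm) (v.inv.app ⊤ (tm one (y b))))).trans ?_
    show (LimSh.tensorModMap (homOfGlobal A (x 0 + (d l : Γ(XQ k, ⊤)) • x 1)) B ≫ Sigma.ι F l).app ⊤
      ((v.inv ≫ v.hom).app ⊤ (tm one (y b))) = _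
    rw [v.inv_hom_id]
    show (Sigma.ι F l).app ⊤ ((LimSh.tensorModMap (homOfGlobal A (x 0 + (d l : Γ(XQ k, ⊤)) • x 1)) B).app ⊤
      (tm one (y b))) = _
    rw [H10Coh.Tw.map_tm, hone, H11Ample.tm_add_left, tm_smul_left, map_add, Scheme.Modules.Hom.app_smul]
  have hunit : ∀ l, IsUnit ((d (σ l) - d l : ℤ) : Γ(XQ k, ⊤)) := by
    intro l
    have hne : d (σ l) - d l ≠ 0 := by
      rw [sub_ne_zero]
      simp only [d, σ, ne_eq, Nat.cast_inj, Fin.val_inj, Equiv.coe_addRight]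
      intro h
      exact one_ne_zero (α := Fin (n + 2)) (add_eq_left.1 h)
    have := (IsUnit.mk0 ((d (σ l) - d l : ℤ) : k) (Int.cast_ne_zero.2 hne)).map
      (Coh.toGlobal (pr₁ k ≫ CohB1.ProjSpace.toSpec 1 k))
    rwa [map_intCast] at this
  have hzero : ∀ a b l, (Sigma.ι F l).app ⊤ (tm (x a) (y b)) ∈ S := fun a b l =>
    (Submodule.Quotient.mk_eq_zero S).1 (forced_zero σ d hunit
      (fun a b l => S.mkQ ((Sigma.ι F l).app ⊤ (tm (x a) (y b))))
      (fun a l => by rw [← map_add]; exact (Submodule.Quotient.mk_eq_zero S).2 (rel₁ a l))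
      (fun b l => by rw [← map_smul, ← map_add]; exact (Submodule.Quotient.mk_eq_zero S).2 (rel₂ b l)) a b l)
  have hall : ∀ l (s : Γ(A, ⊤)) (t : Γ(B, ⊤)), (Sigma.ι F l).app ⊤ (tm s t) ∈ S := by
    intro l s t
    obtain ⟨a, rfl⟩ := exists_sum_pullTop R₂ (by
      rw [← e₁, ← e₂, ← zpow_one D.h₁, ← zpow_neg_one D.h₂]; exact D.cvan_zero' (Or.inr (by norm_num))) s
    obtain ⟨b, rfl⟩ := exists_sum_pullTop R₁ (by
      rw [← e₁, ← e₂, ← zpow_one D.h₂, ← zpow_neg_one D.h₁, mul_comm]; exact D.cvan_zero' (Or.inl (by norm_num))) t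
    simp only [Fin.sum_univ_two, H11Ample.tm_add_left, tm_add_right, tm_smul_left, tm_smul_right, map_add,
      Scheme.Modules.Hom.app_smul, smul_add]
    repeat' apply S.add_mem
    all_goals exact S.smul_mem _ (S.smul_mem _ (hzero _ _ _))
  have hs₂ := setup_pullback (n := 0) (π := pr₂ k)
  obtain ⟨z₂⟩ := hs₂.fam.zero
  have hsp : CMField.Spanned A B := by
    refine CMField.Spanned.of_iso_left (CMField.spanned_one hs₂ (F := A) (m := 0) fun i hi => ?_)
      (PicGrp.tensorModIso (Iso.refl A) z₂ ≪≫ SecTwist.unitorR A)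
    obtain ⟨hO', eO⟩ := cls_pullback_twist (k := k) (pr₂ k) ((0 : ℤ) - i)
    rw [CMField.van_iff, ← cvan_iff (H11Ample.isInvertible_tensor hA hO'), cls_tensor hA hO', eO, cA, ← e₁, ← e₂]
    rcases Nat.lt_or_ge i 2 with h2 | h2
    · obtain rfl : i = 1 := by omega
      exact D.cvan_one (by norm_num) (by norm_num)
    · exact D.cvan_two' h2 (Or.inl (by norm_num))
  have hsurj : Function.Surjective (m.app ⊤) := by
    intro w
    obtain ⟨w', hw'⟩ : ∃ w' : Fin (n + 2) → Γ(CohB1.tensorMod A B, ⊤), w = ∑ l, (Sigma.ι F l).app ⊤ (w' l) := by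
      refine ⟨fun l => ((biproduct.isoCoproduct F).inv ≫ biproduct.π F l).app ⊤ w, ?_⟩
      have h2 := congr($(congrArg (fun g => Scheme.Modules.Hom.app g ⊤) (LeadR1.sum_π_ι F)) w)
      refine h2.symm.trans ?_
      have happ : ∀ (J : Finset (Fin (n + 2))) (g : Fin (n + 2) → ((∐ F) ⟶ (∐ F))),
          (∑ j ∈ J, g j).app ⊤ w = ∑ j ∈ J, (g j).app ⊤ w := fun J g => by
        induction J using Finset.induction with
        | empty => rw [Finset.sum_empty, Finset.sum_empty]; rfl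
        | insert j J hj ih => rw [Finset.sum_insert hj, Finset.sum_insert hj, ← ih]; rfl
      exact happ _ _
    show w ∈ S
    rw [hw']
    refine sum_mem fun l _ => ?_
    have h := hsp (w' l)
    generalize w' l = v' at h ⊢
    induction h using AddSubgroup.closure_induction with
    | mem z hz => obtain ⟨s, t, rfl⟩ := hz; exact hall l s t
    | zero => rw [map_zero]; exact S.zero_mem
    | add a b _ _ ha hb => rw [map_add]; exact S.add_mem ha hb
    | neg a _ ha => rw [map_neg]; exact S.neg_mem ha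
  refine ⟨m, Preadditive.epi_of_cancel_zero m fun {Z} g hg => ?_, hsurj⟩
  refine Sigma.hom_ext _ _ fun l => ?_
  rw [comp_zero]
  have hkill : ∀ a b, (Sigma.ι F l ≫ g).app ⊤ (tm (x a) (y b)) = 0 := fun a b => by
    obtain ⟨w, hw⟩ := hsurj ((Sigma.ι F l).app ⊤ (tm (x a) (y b)))
    show g.app ⊤ ((Sigma.ι F l).app ⊤ (tm (x a) (y b))) = 0
    rw [← hw]
    exact congr($(congrArg (fun f => Scheme.Modules.Hom.app f ⊤) hg) w)
  refine Scheme.Modules.hom_ext _ _ fun W => ?_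
  ext s
  refine eq_of_locally _ _ fun z hz => ?_
  obtain ⟨a, ha⟩ := exists_mem_basicOpen_X (pr₁ k z)
  obtain ⟨b, hb⟩ := exists_mem_basicOpen_X (pr₂ k z)
  let V := W ⊓ (gen A (x a) ⊓ gen B (y b))
  have hzV : z ∈ V := ⟨hz, (H11P1n.gen_pullTop _ isInvertible_twist _).ge ((gen_coord a).ge ha),
    (H11P1n.gen_pullTop _ isInvertible_twist _).ge ((gen_coord b).ge hb)⟩
  have he := isGen_tm ((isGen_gen (x a)).res (inf_le_right.trans inf_le_left : V ≤ gen A (x a)))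
    ((isGen_gen (y b)).res (inf_le_right.trans inf_le_right : V ≤ gen B (y b)))
  obtain ⟨c, hc⟩ := exists_coeff he ((CohB1.tensorMod A B).presheaf.map (homOfLE (inf_le_left : V ≤ W)).op s)
  refine ⟨V, inf_le_left, hzV, ?_⟩
  rw [← app_map_apply, hc, Scheme.Modules.Hom.app_smul, H10Coh.mres_mres, H10Coh.mres_mres, ← tm_res,
    app_map_apply, hkill, map_zero, smul_zero]
  exact (map_zero _).symm

end Groth.Agent.H02CA.Quad
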