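import Groth.Agent.H02CA.Quad.Data
import Groth.Agent.H02CA.BlowPts.Local
import Groth.Agent.H02CA.BlowPts.GeomH
import Groth.Agent.H02CA.BlowPts.PtAcm
import Groth.Agent.H11Ample.RelPullback
import Groth.Agent.H11Ample.RelComp
import Groth.Agent.H11P1n.Mult
import Groth.Agent.H17.PullSect
import Groth.Agent.H26Smooth.ProjSmooth
import Groth.Agent.H22Alg.KosTwist
import Groth.Agent.LeadVA.Transport
import Groth.Agent.S1582
import Groth.Agent.S18351

/-!
# The quadric `P¹ × P¹`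
-/

set_option autoImplicit false
set_option linter.style.haveILetI false
set_option maxHeartbeats 1600000
universe u

open CategoryTheory CategoryTheory.Limits AlgebraicGeometry TopologicalSpace Opposite
open Groth.Agent Groth.Agent.H11Tilde Groth.Agent.H11Ample

namespace Groth.Agent.H02CA.Quad

attribute [local instance] H28Vert.picLaw

open BlowPts

variable {k : Type u} [Field k]

/-- A power of `O(1)` has a section generating at a given point. -/
theorem exists_gen_pow {n : ℕ} (x : CohB1.ProjSpace n k) (a : ℕ) :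
    ∃ (A : (CohB1.ProjSpace n k).Modules) (hA : PicF.IsInvertible A) (s : Γ(A, ⊤)),
      PicGrp.cls A hA = O1 n k ^ (a : ℤ) ∧ x ∈ gen A s := by
  induction a with
  | zero =>
    refine ⟨Coh.structureModule _, H11Proj.isInvertible_structureModule, one ⊤, ?_,
      mem_gen_of_isGen (W := ⊤) ((isGen_one ⊤).res le_rfl) trivial⟩
    rw [Nat.cast_zero, zpow_zero]
    exact (PicGrp.cls_eq_one_iff _).2 ⟨Iso.refl _⟩
  | succ a ih =>
    obtain ⟨A, hA, s, hc, hs⟩ := ih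
    obtain ⟨i, hi⟩ := exists_mem_basicOpen_X x
    have h1 := (H10Coh.Stab.isTwistFamily_projSpace n k).inv 1
    refine ⟨_, H11Ample.isInvertible_tensor hA h1, tm s (ProjUP.coord n k i), ?_, ?_⟩
    · rw [Nat.cast_succ, zpow_add_one, ← hc]
      exact (Subtype.ext (PicGrp.cls_mul_cls_val hA h1)).symm
    · rw [gen_tm hA h1]
      exact ⟨hs, (gen_coord i).ge hi⟩

/-- The fibre of one projection over a point, with what the quadric needs of it. -/
structure Ruling {X : Scheme.{u}} (p q : X ⟶ CohB1.ProjSpace 1 k) where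
  e : CohB1.ProjSpace 1 k ⟶ X
  closed : IsClosedImmersion e
  inv : PicF.IsInvertible (ClSub.idealMod e.ker)
  cls : PicGrp.cls (ClSub.idealMod e.ker) inv = (res p (O1 1 k))⁻¹
  res_p : res e (res p (O1 1 k)) = 1
  over_q : e ≫ q = 𝟙 _
  res_q : res e (res q (O1 1 k)) = O1 1 k
  surj : ∀ (a b : ℕ) (N : X.Modules) (hN : PicF.IsInvertible N),
    PicGrp.cls N hN = res p (O1 1 k) ^ (a : ℤ) * res q (O1 1 k) ^ (b : ℤ) →
      Function.Surjective (OmegaSh.pullSect e N ⊤)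

variable {X : Scheme.{u}} {p q : X ⟶ CohB1.ProjSpace 1 k}

/-- Sections on a fibre over a point extend. -/
theorem surjective_pullSect_fibre (e : CohB1.ProjSpace 1 k ⟶ X) (he : e ≫ q = 𝟙 _) (x : CohB1.ProjSpace 1 k)
    (hx : ∀ z, p (e z) = x) (a b : ℕ) (N : X.Modules) (hN : PicF.IsInvertible N)
    (hc : PicGrp.cls N hN = res p (O1 1 k) ^ (a : ℤ) * res q (O1 1 k) ^ (b : ℤ)) :
    Function.Surjective (OmegaSh.pullSect e N ⊤) := by
  obtain ⟨A, hA, s, hcA, hs⟩ := exists_gen_pow x a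
  obtain ⟨B, hB, hcB⟩ := PicGrp.exists_eq_cls (O1 1 k ^ (b : ℤ))
  let M := (Scheme.Modules.pullback q).obj B
  let L := (Scheme.Modules.pullback p).obj A
  have hM : PicF.IsInvertible M := PicLoc.isInvertible_pullback q hB
  have hL : PicF.IsInvertible L := PicLoc.isInvertible_pullback p hA
  let g : Γ(L, ⊤) := pullTop p s
  have hg : ∀ z, e z ∈ gen L g := fun z =>
    (H11P1n.gen_pullTop p hA s).ge (show p (e z) ∈ gen A s from (hx z).symm ▸ hs)
  let φ := H22Alg.KosTwist.mulHom M g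
  obtain ⟨ι⟩ : Nonempty (CohB1.tensorMod M L ≅ N) := by
    refine (PicGrp.cls_eq_cls_iff (H11Ample.isInvertible_tensor hM hL) hN).1 ?_
    rw [hc, ← map_zpow, ← map_zpow, ← hcA, hcB, res_cls, res_cls, mul_comm]
    exact (Subtype.ext (PicGrp.cls_mul_cls_val hM hL)).symm
  haveI : IsIso ((Scheme.Modules.pullback e).map φ) := isIso_of_gen _ fun z => by
    obtain ⟨V, m, hzV, hm⟩ := exists_gen hM (e z)
    refine ⟨e ⁻¹ᵁ (V ⊓ gen L g), _, ⟨hzV, hg z⟩, IsGen.pullSect e (hm.res inf_le_left), ?_⟩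
    rw [← H17.PullSect.pullSect_natural, H22Alg.KosTwist.mulHom_app]
    refine IsGen.pullSect e (isGen_tm (hm.res inf_le_left) ?_)
    have := (isGen_gen g).res (inf_le_right : V ⊓ gen L g ≤ gen L g)
    rwa [H10Coh.mres_mres] at this
  intro w
  have hsurjM : Function.Surjective (OmegaSh.pullSect e M ⊤) := by
    intro w
    obtain ⟨ψ, hψ⟩ := LeadVA.exists_iso_pullTop e q (𝟙 _) he B
    obtain ⟨c, hc⟩ : ∃ c, OmegaSh.pullSect (𝟙 _) B ⊤ c = ψ.hom.app ⊤ w := by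
      refine ⟨((Scheme.Modules.pullbackId _).hom.app B).app ⊤ (ψ.hom.app ⊤ w), ?_⟩
      rw [← S18351.pullbackId_inv_app]
      exact congr($(congrArg (fun k => Scheme.Modules.Hom.app k ⊤)
        ((Scheme.Modules.pullbackId _).hom_inv_id_app B)) (ψ.hom.app ⊤ w))
    refine ⟨M.presheaf.map (homOfLE (le_top : (⊤ : X.Opens) ≤ ⊤)).op (OmegaSh.pullSect q B ⊤ c), ?_⟩
    refine (ConcreteCategory.bijective_of_isIso (ψ.hom.app ⊤)).1 ?_
    refine Eq.trans ?_ hc
    refine Eq.trans ?_ ((hψ ⊤ le_rfl le_rfl c).trans (H10Coh.mres_self _ _ _))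
    rfl
  haveI : IsIso ((Scheme.Modules.pullback e).map (φ ≫ ι.hom)) := by rw [Functor.map_comp]; infer_instance
  haveI : IsIso (((Scheme.Modules.pullback e).map (φ ≫ ι.hom)).app (e ⁻¹ᵁ ⊤)) :=
    Scheme.Modules.Hom.isIso_iff_isIso_app.mp inferInstance _
  obtain ⟨m', hm'⟩ := (ConcreteCategory.bijective_of_isIso
    (((Scheme.Modules.pullback e).map (φ ≫ ι.hom)).app (e ⁻¹ᵁ ⊤))).2 w
  obtain ⟨m, rfl⟩ := hsurjM m'
  exact ⟨(φ ≫ ι.hom).app ⊤ m, (H17.PullSect.pullSect_natural e (φ ≫ ι.hom) ⊤ m).trans hm'⟩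

/-- The ruling of a fibre square. -/
theorem nonempty_ruling (h : IsPullback p q (CohB1.ProjSpace.toSpec 1 k) (CohB1.ProjSpace.toSpec 1 k)) :
    Nonempty (Ruling p q) := by
  let a : Fin 2 → k := fun i => if i = 0 then 1 else 0
  have ha : a 0 ≠ 0 := one_ne_zero
  haveI := H11Proj.ProjSpace.isIso_toSpec_zero (R := k)
  let j := hemb (n := 0) a 0
  let c : CohB1.ProjSpace 1 k ⟶ CohB1.ProjSpace 0 k :=
    CohB1.ProjSpace.toSpec 1 k ≫ inv (CohB1.ProjSpace.toSpec 0 k)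
  have hj : j ≫ CohB1.ProjSpace.toSpec 1 k = CohB1.ProjSpace.toSpec 0 k := H22Alg.MumfordStep.emb_toSpec a 0
  have hc : c ≫ CohB1.ProjSpace.toSpec 0 k = CohB1.ProjSpace.toSpec 1 k := by simp [c]
  let e := h.lift (c ≫ j) (𝟙 _) (by rw [Category.assoc, hj, hc, Category.id_comp])
  have hep : e ≫ p = c ≫ j := h.lift_fst ..
  have heq : e ≫ q = 𝟙 _ := h.lift_snd ..
  have hsq : IsPullback c e j p := by
    refine IsPullback.of_bot ?_ hep.symm h.flip.flip
    rw [heq, hj]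
    exact IsPullback.of_vert_isIso ⟨by simp [hc]⟩
  haveI : IsSeparated q := MorphismProperty.of_isPullback h inferInstance
  haveI : IsClosedImmersion (e ≫ q) := heq ▸ inferInstance
  haveI : IsClosedImmersion e := IsClosedImmersion.of_comp _ q
  haveI : Flat p := MorphismProperty.of_isPullback h.flip inferInstance
  have hker : e.ker = j.ker.comap p := by
    rw [← Scheme.IdealSheafData.ker_fst_of_isClosedImmersion j p, ← hsq.flip.isoPullback_hom_fst,
      Scheme.Hom.ker_comp_of_isIso]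
  have hG := VBPn.form_ne_zero ha
  have hD : BlowUp.IsEffCartierIdeal j.ker := by
    have := H10Coh.CI.isEffCartierIdeal_hypIdeal (⟨_, VBPn.form_mem a⟩ : LefPen.Form 1 k 1) hG
    rwa [← ker_emb_eq_hypIdeal a 0 ha] at this
  obtain ⟨σ⟩ := H10Coh.CI.nonempty_idealMod_hypIdeal (⟨_, VBPn.form_mem a⟩ : LefPen.Form 1 k 1) hG
  have hDp := H29Blow.isEffCartierIdeal_comap_of_flat hD p
  have hinv : PicF.IsInvertible (ClSub.idealMod e.ker) := hker ▸ H29Blow.isInvertible_of_isEffCartierIdeal _ hDp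
  have hinvj := H29Blow.isInvertible_of_isEffCartierIdeal _ hD
  have h1 : PicGrp.cls (ClSub.idealMod j.ker) hinvj = (O1 1 k)⁻¹ := by
    rw [← zpow_neg_one, ← cls_twist]
    exact cls_eq_of_iso _ _ ⟨eqToIso (congrArg ClSub.idealMod (ker_emb_eq_hypIdeal a 0 ha)) ≪≫ σ ≪≫
      eqToIso (congrArg (Twist.twistProjSpace 1 k) (by simp))⟩
  haveI : Subsingleton (CohB1.ProjSpace 0 k) :=
    (CohB1.ProjSpace.toSpec 0 k).isOpenEmbedding.injective.subsingleton
  obtain ⟨y⟩ : Nonempty (CohB1.ProjSpace 0 k) := ⟨inv (CohB1.ProjSpace.toSpec 0 k) (IsLocalRing.closedPoint k)⟩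
  have hx : ∀ z, p (e z) = j y := fun z => by
    rw [show p (e z) = (e ≫ p) z from rfl, hep]
    exact congrArg j (Subsingleton.elim (c z) y)
  refine ⟨⟨e, inferInstance, hinv, ?_, ?_, heq, ?_, surjective_pullSect_fibre e heq (j y) hx⟩⟩
  · obtain ⟨τ⟩ := H12Pic.CurveFam.nonempty_pullback_idealMod_comap p hD hDp
    rw [← map_inv, ← h1, res_cls]
    exact cls_eq_of_iso _ _ ⟨eqToIso (congrArg ClSub.idealMod hker) ≪≫ τ.symm⟩
  · rw [res_comp, O1]
    exact res_eq_one _ _ (nonempty_pullback_iso_of_range _ (j y) hx ((H10Coh.Stab.isTwistFamily_projSpace 1 k).inv 1))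
  · rw [res_comp, heq, O1, res_cls]
    exact cls_eq_of_iso _ _ ⟨(Scheme.Modules.pullbackId _).app _⟩

/-- The quadric. -/
noncomputable abbrev XQ (k : Type u) [Field k] : Scheme.{u} :=
  pullback (CohB1.ProjSpace.toSpec 1 k) (CohB1.ProjSpace.toSpec 1 k)

/-- The first projection. -/
noncomputable abbrev pr₁ (k : Type u) [Field k] : XQ k ⟶ CohB1.ProjSpace 1 k := pullback.fst _ _

/-- The second projection. -/
noncomputable abbrev pr₂ (k : Type u) [Field k] : XQ k ⟶ CohB1.ProjSpace 1 k := pullback.snd _ _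

instance : IsLocallyNoetherian (XQ k) := by
  haveI := H19Grp.ProjPoint.lft_toSpec (K := k) 1
  exact LocallyOfFiniteType.isLocallyNoetherian (pr₁ k ≫ CohB1.ProjSpace.toSpec 1 k)

/-- `O(1, 1)` is ample. -/
theorem isAmple_one_one : CohB1.IsAmple (CohB1.tensorMod
    ((Scheme.Modules.pullback (pr₁ k)).obj (Twist.twistProjSpace 1 k 1))
    ((Scheme.Modules.pullback (pr₂ k)).obj (Twist.twistProjSpace 1 k 1))) := by
  have h₁ := PicLoc.isInvertible_pullback (pr₁ k) (isInvertible_twist (n := 1) (R := k))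
  have h₂ := PicLoc.isInvertible_pullback (pr₂ k) (isInvertible_twist (n := 1) (R := k))
  haveI := H19Grp.ProjPoint.lft_toSpec (K := k) 1
  haveI : CompactSpace (XQ k) :=
    (quasiCompact_iff_compactSpace (pr₁ k ≫ CohB1.ProjSpace.toSpec 1 k)).mp inferInstance
  rw [isAmple_iff]
  refine ⟨isInvertible_tensor h₁ h₂, inferInstance, fun z => ?_⟩
  obtain ⟨i, hi⟩ := exists_mem_basicOpen_X (pr₁ k z)
  obtain ⟨j, hj⟩ := exists_mem_basicOpen_X (pr₂ k z)
  refine ⟨1, spow (tm (pullTop (pr₁ k) (ProjUP.coord 1 k i)) (pullTop (pr₂ k) (ProjUP.coord 1 k j))) 1, one_pos, ?_⟩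
  rw [gen_spow (isInvertible_tensor h₁ h₂) _ 1 one_pos, gen_tm h₁ h₂, H11P1n.gen_pullTop _ isInvertible_twist,
    H11P1n.gen_pullTop _ isInvertible_twist, gen_coord, gen_coord]
  exact ⟨⟨hi, hj⟩, isAffineOpen_fst_inf_snd (CohB1.ProjSpace.toSpec 1 k) (CohB1.ProjSpace.toSpec 1 k)
    (isAffineOpen_top _) (Proj.isAffineOpen_basicOpen _ _ (X_mem i) one_pos) le_top
    (Proj.isAffineOpen_basicOpen _ _ (X_mem j) one_pos) le_top⟩

theorem exists_amp : ∃ C : ℕ, ∀ q, 0 < q →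
    CVan q (res (pr₁ k) (O1 1 k) ^ (C : ℤ) * res (pr₂ k) (O1 1 k) ^ (C : ℤ)) := by
  have hO1 := (H10Coh.Stab.isTwistFamily_projSpace 1 k).inv 1
  have h₁ := PicLoc.isInvertible_pullback (pr₁ k) hO1
  have h₂ := PicLoc.isInvertible_pullback (pr₂ k) hO1
  have hO := H11Proj.isInvertible_structureModule (X := XQ k)
  obtain ⟨k₀, hk₀⟩ := H10Coh.Tw.exists_vanishing_ample (pr₂ k ≫ CohB1.ProjSpace.toSpec 1 k) isAmple_one_one
    (Coh.structureModule _) (H10Coh.Tw.isCoh_of_vb (H28Pinch.isFinLocFree_of_isInvertible hO))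
  refine ⟨k₀, fun q hq => ?_⟩
  have hA := H11Ample.isInvertible_tensor h₁ h₂
  have hM := H28Vert.isInvertible_tensorPow hA k₀
  have hcls : PicGrp.cls _ (H11Ample.isInvertible_tensor hO hM) =
      res (pr₁ k) (O1 1 k) ^ (k₀ : ℤ) * res (pr₂ k) (O1 1 k) ^ (k₀ : ℤ) := by
    rw [show PicGrp.cls _ (H11Ample.isInvertible_tensor hO hM) = PicGrp.cls _ hO * PicGrp.cls _ hM from
      Subtype.ext (PicGrp.cls_mul_cls_val hO hM).symm, (PicGrp.cls_eq_one_iff hO).2 ⟨Iso.refl _⟩, one_mul,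
      H28Vert.cls_tensorPow hA, show PicGrp.cls _ hA = PicGrp.cls _ h₁ * PicGrp.cls _ h₂ from
        Subtype.ext (PicGrp.cls_mul_cls_val h₁ h₂).symm, ← res_cls _ _ hO1, ← res_cls _ _ hO1, mul_pow,
      zpow_natCast, zpow_natCast]
    rfl
  rw [← hcls, cvan_iff, ← H22Alg.CMField.van_iff]
  exact hk₀ k₀ le_rfl q hq

/-- The restriction data of the quadric. -/
theorem exists_qdata [IsAlgClosed k] : ∃ D : QData k (XQ k),
    D.h₁ = res (pr₁ k) (O1 1 k) ∧ D.h₂ = res (pr₂ k) (O1 1 k) ∧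
      D.e₁ ≫ pr₁ k ≫ CohB1.ProjSpace.toSpec 1 k = CohB1.ProjSpace.toSpec 1 k ∧
      D.e₂ ≫ pr₁ k ≫ CohB1.ProjSpace.toSpec 1 k = CohB1.ProjSpace.toSpec 1 k := by
  obtain ⟨R₁⟩ := nonempty_ruling (IsPullback.of_hasPullback (CohB1.ProjSpace.toSpec 1 k) (CohB1.ProjSpace.toSpec 1 k))
  obtain ⟨R₂⟩ := nonempty_ruling (IsPullback.of_hasPullback (CohB1.ProjSpace.toSpec 1 k) (CohB1.ProjSpace.toSpec 1 k)).flip
  haveI := H19Grp.ProjPoint.lft_toSpec (K := k) 1
  haveI : IsIntegral (CohB1.ProjSpace 1 k) := LeadPic.PnRel.isIntegral_projSpace (n := 1) k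
  haveI : IsIntegral (XQ k) :=
    S1582.result k _ _ (CohB1.ProjSpace.toSpec 1 k) (CohB1.ProjSpace.toSpec 1 k)
  haveI := R₁.closed
  haveI := R₂.closed
  exact ⟨{
    h₁ := res (pr₁ k) (O1 1 k)
    h₂ := res (pr₂ k) (O1 1 k)
    e₁ := R₁.e
    e₂ := R₂.e
    closed₁ := R₁.closed
    closed₂ := R₂.closed
    inv₁ := R₁.inv
    inv₂ := R₂.inv
    cls₁ := R₁.cls
    cls₂ := R₂.cls
    res₁₁ := R₁.res_p
    res₁₂ := R₁.res_q
    res₂₁ := R₂.res_q
    res₂₂ := R₂.res_p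
    amp := exists_amp
    h0₁ := R₁.cls ▸ cvan_zero_idealMod (pr₁ k ≫ CohB1.ProjSpace.toSpec 1 k) R₁.e R₁.inv
    h0₂ := R₂.cls ▸ cvan_zero_idealMod (pr₁ k ≫ CohB1.ProjSpace.toSpec 1 k) R₂.e R₂.inv
    surj₁ := R₁.surj
    surj₂ := fun a b N hN h => R₂.surj b a N hN (by rw [h, mul_comm]) }, rfl, rfl,
    (congrArg (R₁.e ≫ ·) pullback.condition).trans (by rw [← Category.assoc, R₁.over_q, Category.id_comp]),
    by rw [← Category.assoc, R₂.over_q, Category.id_comp]⟩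

end Groth.Agent.H02CA.Quad
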