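import Groth.Agent.H02CA.Quad.Dims
import Groth.Agent.H02CA.BlowPts.PtAcm
import Groth.Agent.H28NT.Connectedness
import Groth.Agent.H10Coh.HHSeq
import Groth.Agent.H10Coh.TwistExact

/-!
# The kernel of a matrix of linear forms on the quadric
-/

set_option autoImplicit false
set_option linter.style.haveILetI false
set_option maxHeartbeats 1600000
universe u

open CategoryTheory CategoryTheory.Limits AlgebraicGeometry TopologicalSpace Opposite
open Groth.Agent Groth.Agent.H22Alg Groth.Agent.LeadFF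

namespace Groth.Agent.H02CA.Quad

attribute [local instance] H28Vert.picLaw

open BlowPts

variable {k : Type u} [Field k] {X : Scheme.{u}}

theorem cls_tensor {M N : X.Modules} (hM : PicF.IsInvertible M) (hN : PicF.IsInvertible N) :
    PicGrp.cls _ (H11Ample.isInvertible_tensor hM hN) = PicGrp.cls M hM * PicGrp.cls N hN :=
  Subtype.ext (PicGrp.cls_mul_cls_val hM hN).symm

/-- The sheaf `O(a, b)`. -/
noncomputable abbrev box (a b : ℤ) : (XQ k).Modules := CohB1.tensorMod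
  ((Scheme.Modules.pullback (pullback.fst (CohB1.ProjSpace.toSpec 1 k) (CohB1.ProjSpace.toSpec 1 k))).obj
    (Twist.twistProjSpace 1 k a))
  ((Scheme.Modules.pullback (pullback.snd (CohB1.ProjSpace.toSpec 1 k) (CohB1.ProjSpace.toSpec 1 k))).obj
    (Twist.twistProjSpace 1 k b))

variable [IsAlgClosed k] (D : QData k (XQ k)) (e₁ : D.h₁ = res (pr₁ k) (O1 1 k)) (e₂ : D.h₂ = res (pr₂ k) (O1 1 k))

include e₁ e₂

theorem box_cls (a b : ℤ) :
    ∃ h : PicF.IsInvertible (box (k := k) a b), PicGrp.cls _ h = D.cl a b := by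
  obtain ⟨h1, c1⟩ := cls_pullback_twist (k := k) (pr₁ k) a
  obtain ⟨h2, c2⟩ := cls_pullback_twist (k := k) (pr₂ k) b
  exact ⟨H11Ample.isInvertible_tensor h1 h2, by rw [cls_tensor h1 h2, c1, c2, QData.cl, e₁, e₂]⟩

/-- Cohomology of `O(a,b)^r ⊗ L`. -/
theorem van_sum {r : ℕ} {Q L : (XQ k).Modules} {a b c d : ℤ} {q : ℕ}
    (hQ : Nonempty (Q ≅ ∐ fun _ : Fin r => box (k := k) a b)) (hL : PicF.IsInvertible L)
    (hLc : PicGrp.cls L hL = D.cl c d) (h : CVan q (D.cl (a + c) (b + d))) :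
    Subsingleton (Coh.HH (XQ k) (CohB1.tensorMod L Q) q) := by
  obtain ⟨hb, cb⟩ := box_cls D e₁ e₂ a b
  refine H10Coh.subsingleton_HH_of_iso (H10Coh.Tw.commIso Q L) q (sigma_tensor_van hQ hb hL ?_ h)
  rw [cb, hLc, QData.cl, QData.cl, QData.cl, zpow_add, zpow_add, mul_mul_mul_comm]

variable {r : ℕ} {Q₁ Q₂ P : (XQ k).Modules}

/-- Vanishing on the kernel after a twist. -/
theorem kernel_van (hQ₁ : Nonempty (Q₁ ≅ ∐ fun _ : Fin r => box (k := k) 1 0))
    (hQ₂ : Nonempty (Q₂ ≅ ∐ fun _ : Fin r => box (k := k) 0 1))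
    (hP : Nonempty (P ≅ ∐ fun _ : Fin r => box (k := k) 1 1))
    (m : Q₁ ⊞ Q₂ ⟶ P) [Epi m] {L : (XQ k).Modules} (hL : PicF.IsInvertible L) {c : ℤ}
    (hLc : PicGrp.cls L hL = D.cl c c) (q : ℕ)
    (hv₁ : CVan (q + 1) (D.cl (1 + c) c)) (hv₂ : CVan (q + 1) (D.cl c (1 + c)))
    (hvP : CVan q (D.cl (1 + c) (1 + c)) ∨
      (q = 0 ∧ Function.Surjective (m.app ⊤) ∧ 0 ≤ c)) :
    Subsingleton (Coh.HH (XQ k) (CohB1.tensorMod (kernel m) L) (q + 1)) := by
  obtain ⟨L', hL', hc'⟩ := PicGrp.exists_eq_cls (PicGrp.cls L hL)⁻¹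
  obtain ⟨e⟩ : Nonempty (CohB1.tensorMod L L' ≅ Coh.structureModule _) := by
    rw [← PicGrp.cls_eq_one_iff (H11Ample.isInvertible_tensor hL hL'), cls_tensor hL hL', ← hc', mul_inv_cancel]
  let T := (DCoh.tensorBi (X := XQ k)).obj L
  haveI : T.IsEquivalence := H15Site.Invertible.isEquivalence_of_iso_unit (O := (XQ k).sheaf) e
  haveI : T.PreservesZeroMorphisms := Functor.preservesZeroMorphisms_of_full T
  haveI : PreservesFiniteLimits T := inferInstance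
  haveI : PreservesFiniteColimits T := inferInstance
  have hT := ({ exact := ShortComplex.exact_kernel m } :
    (ShortComplex.mk (kernel.ι m) m (kernel.condition m)).ShortExact).map_of_exact T
  refine H10Coh.subsingleton_HH_of_iso (H10Coh.Tw.commIso L (kernel m)) (q + 1) ?_
  have hQ : Subsingleton (Coh.HH (XQ k) (T.obj (Q₁ ⊞ Q₂)) (q + 1)) :=
    H10Coh.HHSeq.subsingleton₂ ((ShortComplex.Splitting.ofHasBinaryBiproduct Q₁ Q₂).shortExact.map_of_exact T)
      (van_sum D e₁ e₂ hQ₁ hL hLc (by simpa using hv₁)) (van_sum D e₁ e₂ hQ₂ hL hLc (by simpa using hv₂))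
  rcases hvP with h | ⟨rfl, hg, hc0⟩
  · exact H10Coh.HHSeq.subsingleton₁ hT (van_sum D e₁ e₂ hP hL hLc h) hQ
  refine subsingleton_H1_of_surjective hT ?_ hQ
  let O₁ : ℤ → (XQ k).Modules := fun a => (Scheme.Modules.pullback (pr₁ k)).obj (Twist.twistProjSpace 1 k a)
  let O₂ : ℤ → (XQ k).Modules := fun a => (Scheme.Modules.pullback (pr₂ k)).obj (Twist.twistProjSpace 1 k a)
  have hs₁ := setup_pullback (n := 0) (π := pr₁ k)
  have hs₂ := setup_pullback (n := 0) (π := pr₂ k)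
  have hreg₁ : CMField.Reg O₁ L 0 := fun i hi => by
    obtain ⟨hO, eO⟩ := cls_pullback_twist (k := k) (pr₁ k) ((0 : ℤ) - i)
    rw [CMField.van_iff, ← cvan_iff (H11Ample.isInvertible_tensor hL hO), cls_tensor hL hO, eO, hLc, ← e₁,
      show D.cl c c * D.h₁ ^ ((0 : ℤ) - i) = D.cl (c + (0 - i)) c by rw [QData.cl, QData.cl, zpow_add, mul_right_comm]]
    rcases Nat.lt_or_ge i 2 with h2 | h2
    · obtain rfl : i = 1 := by omega
      exact D.cvan_one (by omega) (by omega)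
    · exact D.cvan_two' h2 (Or.inr (by omega))
  obtain ⟨hO1, eO1⟩ := cls_pullback_twist (k := k) (pr₁ k) 1
  let N := CohB1.tensorMod L (O₁ 1)
  have hN : PicF.IsInvertible N := H11Ample.isInvertible_tensor hL hO1
  have hNc : PicGrp.cls N hN = D.cl (c + 1) c := by
    rw [cls_tensor hL hO1, eO1, hLc, ← e₁, QData.cl, QData.cl, zpow_add, mul_right_comm]
  have hreg₂ : CMField.Reg O₂ N 0 := fun i hi => by
    obtain ⟨hO, eO⟩ := cls_pullback_twist (k := k) (pr₂ k) ((0 : ℤ) - i)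
    rw [CMField.van_iff, ← cvan_iff (H11Ample.isInvertible_tensor hN hO), cls_tensor hN hO, eO, hNc, ← e₂,
      show D.cl (c + 1) c * D.h₂ ^ ((0 : ℤ) - i) = D.cl (c + 1) (c + (0 - i)) by rw [QData.cl, QData.cl, zpow_add D.h₂, mul_assoc]]
    rcases Nat.lt_or_ge i 2 with h2 | h2
    · obtain rfl : i = 1 := by omega
      exact D.cvan_one (by omega) (by omega)
    · exact D.cvan_two' h2 (Or.inl (by omega))
  obtain ⟨z₁⟩ := hs₁.fam.zero
  obtain ⟨z₂⟩ := hs₂.fam.zero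
  have h1 : CMField.Spanned L (O₁ 1) :=
    CMField.Spanned.of_iso_left (CMField.spanned_one hs₁ hreg₁)
      (PicGrp.tensorModIso (Iso.refl L) z₁ ≪≫ SecTwist.unitorR L)
  have h2 : CMField.Spanned N (O₂ 1) :=
    CMField.Spanned.of_iso_left (CMField.spanned_one hs₂ hreg₂)
      (PicGrp.tensorModIso (Iso.refl N) z₂ ≪≫ SecTwist.unitorR N)
  obtain ⟨eP⟩ := hP
  exact surjective_tensor m hg (spanned_sigma (h1.trans h2) eP)

/-- The dimension of the sections of a sum. -/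
theorem finrank_sum {a b : ℤ} {d : ℕ} (hd : Dim (k := k) (D.cl a b) d) {Q : (XQ k).Modules}
    (hQ : Nonempty (Q ≅ ∐ fun _ : Fin r => box (k := k) a b)) :
    Module.Finite k (Coh.HH (XQ k) Q 0) ∧ Module.finrank k (Coh.HH (XQ k) Q 0) = r * d := by
  obtain ⟨e⟩ := hQ
  obtain ⟨hb, cb⟩ := box_cls D e₁ e₂ a b
  obtain ⟨hf, hr⟩ := hd _ hb cb
  have hQ' : Q ≅ ⨁ fun _ : Fin r => box (k := k) a b := e ≪≫ (biproduct.isoCoproduct _).symm
  have h := H28RR.Clopen.finrank_hh_biproduct k (fun _ : Fin r => box (k := k) a b) 0 fun _ => hf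
  rw [← (H10Coh.HHSeq.isoₗ (A := k) hQ' 0).finrank_eq, Finset.sum_congr rfl (fun i _ => hr),
    Finset.sum_const, Finset.card_univ, Fintype.card_fin, smul_eq_mul] at h
  refine ⟨?_, h⟩
  haveI := H29RR.isNoetherian_of_proper (k := k) (X := XQ k)
  exact H10Coh.finite_HH_proper k _ _ (H10Coh.isCoh_of_iso hQ'.symm
    (LeadDev.isCoh_biproduct (box (k := k) a b)
      (H10Coh.Tw.isCoh_of_vb (H28Pinch.isFinLocFree_of_isInvertible hb)))) 0

/-- Sections of the kernel vanish. -/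
theorem kernel_h0
    (o₁ : D.e₁ ≫ pr₁ k ≫ CohB1.ProjSpace.toSpec 1 k = CohB1.ProjSpace.toSpec 1 k)
    (o₂ : D.e₂ ≫ pr₁ k ≫ CohB1.ProjSpace.toSpec 1 k = CohB1.ProjSpace.toSpec 1 k)
    (hQ₁ : Nonempty (Q₁ ≅ ∐ fun _ : Fin r => box (k := k) 1 0))
    (hQ₂ : Nonempty (Q₂ ≅ ∐ fun _ : Fin r => box (k := k) 0 1))
    (hP : Nonempty (P ≅ ∐ fun _ : Fin r => box (k := k) 1 1))
    (m : Q₁ ⊞ Q₂ ⟶ P) [Epi m] (hm : Function.Surjective (Hm m 0)) :
    Subsingleton (Coh.HH (XQ k) (kernel m) 0) := by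
  obtain ⟨d₁, d₂, d₃⟩ := exists_dims D o₁ o₂
  obtain ⟨f₁, r₁⟩ := finrank_sum D e₁ e₂ d₁ hQ₁
  obtain ⟨f₂, r₂⟩ := finrank_sum D e₁ e₂ d₂ hQ₂
  obtain ⟨f₃, r₃⟩ := finrank_sum D e₁ e₂ d₃ hP
  haveI := f₁
  haveI := f₂
  haveI := f₃
  have hQ : Module.finrank k (Coh.HH (XQ k) (Q₁ ⊞ Q₂) 0) = r * 4 := by
    rw [H29RR.finrank_hh_biprod, r₁, r₂]; ring
  have hS : (ShortComplex.mk (kernel.ι m) m (kernel.condition m)).ShortExact :=
    { exact := ShortComplex.exact_kernel m }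
  rcases Nat.eq_zero_or_pos r with rfl | hr
  · haveI : Subsingleton (Coh.HH (XQ k) Q₁ 0) := Module.finrank_zero_iff.1 (by simpa using r₁)
    haveI : Subsingleton (Coh.HH (XQ k) Q₂ 0) := Module.finrank_zero_iff.1 (by simpa using r₂)
    exact H10Coh.HHSeq.subsingleton_zero hS
      (H10Coh.HHSeq.subsingleton₂ (ShortComplex.Splitting.ofHasBinaryBiproduct Q₁ Q₂).shortExact ‹_› ‹_›)
  haveI : Module.Finite k (Coh.HH (XQ k) (Q₁ ⊞ Q₂) 0) := Module.finite_of_finrank_pos (by rw [hQ]; omega)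
  let f := H10Coh.Hyper.Hmₗ (F := k) m 0
  have hinj : Function.Injective f :=
    (LinearMap.injective_iff_surjective_of_finrank_eq_finrank (by rw [hQ, r₃])).2 hm
  refine subsingleton_of_forall_eq 0 fun x => H10Coh.HHSeq.injective_Hm_zero hS (Eq.trans ?_ (map_zero _).symm)
  refine hinj (Eq.trans ?_ (map_zero f).symm)
  have hker := H10Coh.Hyper.ker_Hmₗ (F := k) hS 0
  exact LinearMap.mem_ker.1 (hker.ge ⟨x, rfl⟩)

end Groth.Agent.H02CA.Quad
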